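import Cfsg.Agent.DG6.G1
import Cfsg.Agent.DG6.G2
import Cfsg.Agent.DG6.O

/-! Groups of order 12096 without elements of order 14 and 21. -/

set_option autoImplicit false
set_option linter.style.haveILetI false

namespace Cfsg.Agent.G22
open Cfsg Subgroup

universe u

namespace RD

variable {H : Type*} [Group H] [Finite H]

theorem c7 {m : ℕ} (hn : Nat.card H = 7 * m) (hm : m ∣ 1728) (h14 : ∀ g : H, orderOf g ≠ 14)
    (h21 : ∀ g : H, orderOf g ≠ 21) {x : H} (hx : orderOf x = 7) (K : Subgroup H)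
    (hK : ∀ k ∈ K, x * k = k * x) : Nat.card K ∣ 7 := by
  have key : ∀ q : ℕ, q.Prime → q = 2 ∨ q = 3 → ¬ q ∣ Nat.card K := fun q hq h23 hd => by
    haveI : Fact q.Prime := ⟨hq⟩
    obtain ⟨y, hy⟩ := exists_prime_orderOf_dvd_card' q hd
    have hy' : orderOf (y : H) = q := by rw [Subgroup.orderOf_coe, hy]
    have hc : Commute x (y : H) := hK y y.2
    have := hc.orderOf_mul_eq_mul_orderOf_of_coprime (by
      rw [hx, hy']; rcases h23 with rfl | rfl <;> norm_num)
    rw [hx, hy'] at this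
    rcases h23 with rfl | rfl
    · exact h14 _ this
    · exact h21 _ this
  have h2 : (Nat.card K).Coprime 2 :=
    ((Nat.prime_two.coprime_iff_not_dvd).2 (key 2 Nat.prime_two (Or.inl rfl))).symm
  have h3 : (Nat.card K).Coprime 3 :=
    ((Nat.prime_three.coprime_iff_not_dvd).2 (key 3 Nat.prime_three (Or.inr rfl))).symm
  have h4 : (Nat.card K).Coprime 1728 := by
    rw [show 1728 = 2 ^ 6 * 3 ^ 3 by norm_num]
    exact Nat.Coprime.mul_right (h2.pow_right _) (h3.pow_right _)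
  have h5 : Nat.card K ∣ 7 * 1728 :=
    (card_subgroup_dvd_card K).trans (hn ▸ mul_dvd_mul_left 7 hm)
  exact h4.dvd_of_dvd_mul_right h5

theorem cls {m : ℕ} (hn : Nat.card H = 7 * m) (hm : m ∣ 1728) (h14 : ∀ g : H, orderOf g ≠ 14)
    (h21 : ∀ g : H, orderOf g ≠ 21) (T : Subgroup H) [hT : T.Normal] (h7 : 7 ∣ Nat.card T) :
    m ≤ Nat.card T := by
  haveI : Fact (Nat.Prime 7) := ⟨by norm_num⟩
  obtain ⟨y, hy⟩ := exists_prime_orderOf_dvd_card' 7 h7
  have hx : orderOf (y : H) = 7 := by rw [Subgroup.orderOf_coe, hy]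
  have h1 := c7 hn hm h14 h21 hx (centralizer {(y : H)}) fun k hk =>
    mem_centralizer_iff.1 hk _ rfl
  rw [Subgroup.nat_card_centralizer_nat_card_stabilizer] at h1
  have h2 := MulAction.index_stabilizer (ConjAct H) (y : H)
  have h3 := (MulAction.stabilizer (ConjAct H) (y : H)).card_mul_index
  have h4 : Nat.card (ConjAct H) = 7 * m := hn
  have h5 : (MulAction.orbit (ConjAct H) (y : H)).ncard ≤ (T : Set H).ncard :=
    Set.ncard_le_ncard (by
      rintro _ ⟨g, rfl⟩
      exact hT.conj_mem _ y.2 _) (Set.toFinite _)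
  have h6 : (T : Set H).ncard = Nat.card T := (Nat.card_coe_set_eq _).symm
  have h8 := Nat.le_of_dvd (by norm_num) h1
  rw [h2, h4] at h3
  rw [h6] at h5
  nlinarith

theorem key {m : ℕ} (hn : Nat.card H = 7 * m) (hm : m ∣ 1728) (h14 : ∀ g : H, orderOf g ≠ 14)
    (h21 : ∀ g : H, orderOf g ≠ 21) (hO : pPrimeCore 7 H = ⊥) (h8 : 7 < m) :
    ∃ T : Subgroup H, T.Normal ∧ IsSimpleGroup T ∧ ¬ IsMulCommutative T ∧ m ≤ Nat.card T ∧
      centralizer (T : Set H) = ⊥ := by
  haveI : Fact (Nat.Prime 7) := ⟨by norm_num⟩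
  have h49 : ¬ 7 ^ 2 ∣ Nat.card H := fun h => by
    rw [hn, pow_two] at h
    exact absurd ((Nat.dvd_of_mul_dvd_mul_left (by norm_num) h).trans hm) (by norm_num)
  haveI : Nontrivial H := by
    rw [← Finite.one_lt_card_iff_nontrivial, hn]; omega
  obtain ⟨T, ⟨hT, hT0⟩, hmin⟩ := (wellFounded_lt (α := Subgroup H)).has_min
    {M | M.Normal ∧ M ≠ ⊥} ⟨⊤, inferInstance, top_ne_bot⟩
  obtain ⟨hs, hd⟩ := DG6.PG.simple_of_min (by norm_num) h49 hO hT0 fun K hK hK0 hKT => by
    by_contra h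
    exact hmin K ⟨hK, hK0⟩ (lt_of_le_of_ne hKT h)
  have h1 := cls hn hm h14 h21 T hd
  have hC : centralizer (T : Set H) = ⊥ := by
    rw [eq_bot_iff, ← hO]
    refine H1.le_pPrimeCore (Nat.Coprime.symm (((by norm_num : Nat.Prime 7).coprime_iff_not_dvd).2
      fun e => ?_))
    obtain ⟨y, hy⟩ := exists_prime_orderOf_dvd_card' 7 e
    have hx : orderOf (y : H) = 7 := by rw [Subgroup.orderOf_coe, hy]
    have := Nat.le_of_dvd (by norm_num) (c7 hn hm h14 h21 hx T fun k hk =>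
      (mem_centralizer_iff.1 y.2 k hk).symm)
    omega
  refine ⟨T, hT, hs, fun hc => hT0 ?_, h1, hC⟩
  rw [eq_bot_iff, ← hC]
  exact fun a ha => mem_centralizer_iff.2 fun b hb =>
    congrArg Subtype.val (hc.is_comm.comm (⟨b, hb⟩ : T) ⟨a, ha⟩)

theorem quo {n : ℕ} (h : ∀ g : H, orderOf g ≠ n) (N : Subgroup H) [N.Normal] (g : H ⧸ N) :
    orderOf g ≠ n := fun e => by
  obtain ⟨x, rfl⟩ := QuotientGroup.mk'_surjective N g
  have h1 : n ∣ orderOf x := e ▸ orderOf_map_dvd _ x
  exact h _ (orderOf_pow_orderOf_div (orderOf_pos x).ne' h1)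

theorem core (hn : Nat.card H = 12096) (h14 : ∀ g : H, orderOf g ≠ 14)
    (h21 : ∀ g : H, orderOf g ≠ 21) :
    Nat.card (pPrimeCore 7 H) = 1 ∨ Nat.card (pPrimeCore 7 H) = 8 ∨
      Nat.card (pPrimeCore 7 H) = 64 := by
  haveI : Fact (Nat.Prime 7) := ⟨by norm_num⟩
  haveI : Fact (Nat.Prime 3) := ⟨by norm_num⟩
  obtain ⟨x, hx⟩ := exists_prime_orderOf_dvd_card' (G := H) 7 (by rw [hn]; norm_num)
  set N := pPrimeCore 7 H
  have n7 : ¬ 7 ∣ Nat.card N := H1.not_dvd_card_pPrimeCore 7 H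
  set φ : MulAut N := MulAut.conjNormal x with hφ'
  have hφ : φ ^ 7 = 1 := by
    have h0 : x ^ 7 = 1 := hx ▸ pow_orderOf_eq_one x
    rw [hφ', ← map_pow, h0, map_one]
  have hF : ∀ P : Subgroup N, Nat.card (P ⊓ DG6.P2.Fx φ : Subgroup N) = 1 := fun P => by
    have h1 := c7 (m := 1728) hn dvd_rfl h14 h21 hx ((P ⊓ DG6.P2.Fx φ).map N.subtype) (by
      rintro _ ⟨k, hk, rfl⟩
      have h2 : φ k = k := hk.2
      have h3 := congrArg Subtype.val h2
      rw [hφ', MulAut.conjNormal_apply] at h3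
      exact mul_inv_eq_iff_eq_mul.1 h3)
    rw [card_map_of_injective N.subtype_injective] at h1
    rcases (Nat.dvd_prime (by norm_num)).1 h1 with h | h
    · exact h
    · exact absurd (h ▸ card_subgroup_dvd_card _) n7
  have hN : Nat.card N ∣ 1728 :=
    (((by norm_num : Nat.Prime 7).coprime_iff_not_dvd.2 n7).symm).dvd_of_dvd_mul_left
      ((card_subgroup_dvd_card N).trans (by rw [hn]))
  have m1 := DG6.P2.fix_mod hφ ⊤ fun _ _ => mem_top _
  rw [hF, card_top] at m1
  obtain ⟨P, hP⟩ := DG6.P2.inv_syl hφ n7 3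
  have m2 := DG6.P2.fix_mod hφ _ hP
  rw [hF] at m2
  obtain ⟨k, hk⟩ := IsPGroup.iff_card.1 P.isPGroup'
  have hk3 : k ≤ 3 := by
    by_contra h
    have : 3 ^ 4 ∣ 1728 := (pow_dvd_pow 3 (by omega)).trans
      (hk ▸ (card_subgroup_dvd_card _).trans hN)
    norm_num at this
  have hk0 : k = 0 := by
    rw [hk] at m2
    unfold Nat.ModEq at m2
    interval_cases k <;> simp_all
  have n3 : ¬ 3 ∣ Nat.card N := fun h => by
    have := P.not_dvd_index
    rw [← (P : Subgroup N).card_mul_index, hk, hk0, pow_zero, one_mul] at h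
    exact this h
  have h64 : Nat.card N ∣ 2 ^ 6 :=
    (((Nat.prime_three.coprime_iff_not_dvd.2 n3).symm).pow_right 3).dvd_of_dvd_mul_right
      (hN.trans (by norm_num))
  obtain ⟨j, hj, e⟩ := (Nat.dvd_prime_pow Nat.prime_two).1 h64
  rw [e] at m1 ⊢
  unfold Nat.ModEq at m1
  interval_cases j <;> simp_all

theorem ne8 (hn : Nat.card H = 12096) (h14 : ∀ g : H, orderOf g ≠ 14)
    (h21 : ∀ g : H, orderOf g ≠ 21) : Nat.card (pPrimeCore 7 H) ≠ 8 := fun h8 => by
  classical
  haveI : Fact (Nat.Prime 7) := ⟨by norm_num⟩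
  set N := pPrimeCore 7 H with hN
  let f : H →* Equiv.Perm N := (MulAction.toPermHom (MulAut N) N).comp MulAut.conjNormal
  have h1 : f.ker ≤ N := by
    refine H1.le_pPrimeCore (Nat.Coprime.symm (((by norm_num : Nat.Prime 7).coprime_iff_not_dvd).2
      fun e => ?_))
    obtain ⟨y, hy⟩ := exists_prime_orderOf_dvd_card' 7 e
    have hx : orderOf (y : H) = 7 := by rw [Subgroup.orderOf_coe, hy]
    have := c7 (m := 1728) hn dvd_rfl h14 h21 hx N fun k hk => by
      have h2 := congrArg (fun σ : Equiv.Perm N => ((σ ⟨k, hk⟩ : N) : H)) (MonoidHom.mem_ker.1 y.2)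
      exact mul_inv_eq_iff_eq_mul.1 h2
    rw [h8] at this
    norm_num at this
  have h2 : Nat.card f.ker ∣ 8 := h8 ▸ card_dvd_of_le h1
  have h3 : f.ker.index ∣ Nat.card (Equiv.Perm N) := by
    rw [index_ker]; exact card_subgroup_dvd_card _
  rw [Nat.card_perm, h8] at h3
  have h4 := f.ker.card_mul_index
  rw [hn] at h4
  have h5 : 12096 ∣ 8 * Nat.factorial 8 := h4 ▸ mul_dvd_mul h2 h3
  norm_num [Nat.factorial] at h5

end RD

theorem rd {G : Type u} [Group G] [Finite G] (hn : Nat.card G = 12096)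
    (h14 : ∀ g : G, orderOf g ≠ 14) (h21 : ∀ g : G, orderOf g ≠ 21)
    (ns : ∀ (H : Type u) [Group H] [Finite H] [IsSimpleGroup H], Nat.card H ≠ 12096) :
    ∃ T : Subgroup G, T.Normal ∧ IsSimpleGroup T ∧ Nat.card T = 6048 ∧
      centralizer (T : Set G) = ⊥ := by
  rcases RD.core hn h14 h21 with h | h | h
  · obtain ⟨T, hT, hs, hc, hm, hC⟩ := RD.key (m := 1728) hn dvd_rfl h14 h21 (card_eq_one.1 h)
      (by norm_num)
    refine ⟨T, hT, hs, ?_, hC⟩
    have h1 := T.card_mul_index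
    rw [hn] at h1
    by_cases h6 : Nat.card T < 6000
    · have h2 := DG6.ords hc h6
      have h3 : Nat.card T ∣ 12096 := Dvd.intro _ h1
      simp only [List.mem_cons, List.not_mem_nil, or_false] at h2
      exfalso
      rcases h2 with e | e | e | e | e | e | e | e | e | e | e <;> rw [e] at h3 hm <;>
        omega
    · have h2 := ns T
      have h3 : T.index ≤ 2 := by nlinarith
      generalize T.index = j at *
      interval_cases j <;> omega
  · exact absurd h (RD.ne8 hn h14 h21)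
  · have e1 := card_eq_card_quotient_mul_card_subgroup (pPrimeCore 7 G)
    rw [hn, h] at e1
    obtain ⟨T, hT, hs, hc, hm, hC⟩ := RD.key (H := G ⧸ pPrimeCore 7 G) (m := 27) (by omega)
      (by norm_num) (RD.quo h14 _) (RD.quo h21 _) (H1.pPrimeCore_quotient_pPrimeCore 7)
      (by norm_num)
    have h3 : Nat.card T ∣ 189 := (card_subgroup_dvd_card T).trans
      (dvd_of_eq (by omega))
    have h2 := DG6.ords hc (lt_of_le_of_lt (Nat.le_of_dvd (by norm_num) h3) (by norm_num))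
    simp only [List.mem_cons, List.not_mem_nil, or_false] at h2
    exfalso
    rcases h2 with e | e | e | e | e | e | e | e | e | e | e <;> rw [e] at h3 <;>
      exact absurd h3 (by norm_num)

end Cfsg.Agent.G22
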